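import Groth.Agent.QuietLib.Comp

/-!
# Lifting étale algebras and root towers along surjections with nil kernel
-/

set_option linter.style.haveILetI false

universe u

open CategoryTheory CategoryTheory.Limits AlgebraicGeometry

noncomputable section

namespace Groth.Agent.QuietLib

/-- An étale algebra over `A₀ = A / (nil ideal)` lifts to an étale algebra over `A`. -/
theorem exists_etale_lift {A A₀ C₀ : CommRingCat.{u}} (π : A ⟶ A₀) (hπ : Function.Surjective π.hom)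
    (hnil : RingHom.ker π.hom ≤ nilradical A) (g₀ : A₀ ⟶ C₀) (hg₀ : g₀.hom.Etale) :
    ∃ (C : CommRingCat.{u}) (g : A ⟶ C) (ρ : C ⟶ C₀), g.hom.Etale ∧ Function.Surjective ρ.hom ∧
      IsPushout g π ρ g₀ := by
  classical
  letI := g₀.hom.toAlgebra
  haveI : Algebra.Etale A₀ C₀ := hg₀
  haveI : Algebra.IsStandardSmoothOfRelativeDimension 0 A₀ C₀ :=
    Algebra.Etale.iff_isStandardSmoothOfRelativeDimension_zero.1 inferInstance
  obtain ⟨ι, σ, _, _, P, hP⟩ :=
    Algebra.IsStandardSmoothOfRelativeDimension.out (n := 0) (R := A₀) (S := C₀)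
  letI := Fintype.ofFinite σ
  choose v hv using fun i : σ => MvPolynomial.map_surjective π.hom hπ (P.relation i)
  let Q : Algebra.PreSubmersivePresentation A (MvPolynomial ι A ⧸ Ideal.span (Set.range v)) ι σ :=
    Algebra.PreSubmersivePresentation.naive P.map P.map_inj
  let ev : MvPolynomial ι A →+* C₀ :=
    (MvPolynomial.aeval (R := A₀) P.val).toRingHom.comp (MvPolynomial.map π.hom)
  have hev : Function.Surjective ev := fun c => by
    obtain ⟨q, hq⟩ := P.algebraMap_surjective c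
    obtain ⟨q', rfl⟩ := MvPolynomial.map_surjective π.hom hπ q
    exact ⟨q', by rw [← hq, Algebra.Generators.algebraMap_apply]; rfl⟩
  have hspan : (Ideal.span (Set.range v)).map (MvPolynomial.map π.hom) =
      RingHom.ker (MvPolynomial.aeval (R := A₀) P.val).toRingHom := by
    rw [Ideal.map_span, ← Set.range_comp]
    exact (congrArg (fun w => Ideal.span (Set.range w)) (funext hv : MvPolynomial.map π.hom ∘ v = P.relation)).trans
      (P.span_range_relation_eq_ker.trans (Algebra.Generators.ker_eq_ker_aeval_val P.toGenerators))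
  have hker : ∀ q ∈ Ideal.span (Set.range v), ev q = 0 := fun q hq =>
    RingHom.mem_ker.1 (hspan.le (Ideal.mem_map_of_mem _ hq))
  let ρ : (MvPolynomial ι A ⧸ Ideal.span (Set.range v)) →+* C₀ := Ideal.Quotient.lift _ ev hker
  have hρ : Function.Surjective ρ := Ideal.Quotient.lift_surjective_of_surjective _ hker hev
  have hnilρ : RingHom.ker ρ ≤ nilradical _ := by
    intro x hx
    obtain ⟨q, rfl⟩ := Ideal.Quotient.mk_surjective x
    have h1 : MvPolynomial.map π.hom q ∈ (Ideal.span (Set.range v)).map (MvPolynomial.map π.hom) := by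
      rw [hspan]; exact hx
    obtain ⟨w, hw, hwq⟩ :=
      (Ideal.mem_map_iff_of_surjective _ (MvPolynomial.map_surjective _ hπ)).1 h1
    have h2 : IsNilpotent (q - w) := by
      rw [MvPolynomial.isNilpotent_iff]
      intro m
      refine hnil (RingHom.mem_ker.2 ?_)
      rw [← MvPolynomial.coeff_map, map_sub, hwq, sub_self, MvPolynomial.coeff_zero]
    have h3 := h2.map (Ideal.Quotient.mk (Ideal.span (Set.range v)))
    rwa [map_sub, Ideal.Quotient.eq_zero_iff_mem.2 hw, sub_zero, ← mem_nilradical] at h3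
  have hjac : IsUnit Q.jacobian := by
    have h1 : ρ Q.jacobian = P.jacobian := by
      rw [Algebra.PreSubmersivePresentation.jacobian_eq_jacobiMatrix_det,
        Algebra.PreSubmersivePresentation.jacobian_eq_jacobiMatrix_det]
      have h2 : ∀ q : MvPolynomial ι A, ρ (algebraMap Q.Ring _ q) =
          algebraMap P.Ring C₀ (MvPolynomial.map π.hom q) := by
        intro q
        rw [Algebra.Generators.algebraMap_apply, Algebra.Generators.algebraMap_apply]
        have h3 : MvPolynomial.aeval Q.val q = Ideal.Quotient.mk (Ideal.span (Set.range v)) q := by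
          have : (MvPolynomial.aeval Q.val) = Ideal.Quotient.mkₐ A (Ideal.span (Set.range v)) :=
            MvPolynomial.algHom_ext fun i => by simp [Q]
          rw [this]; rfl
        rw [h3]
        rfl
      rw [h2]
      congr 1
      rw [RingHom.map_det]
      congr 1
      ext i j
      simp [Q, Algebra.PreSubmersivePresentation.jacobiMatrix_apply, ← hv, MvPolynomial.pderiv_map]
      rfl
    obtain ⟨y, hy⟩ := hρ (↑(P.jacobian_isUnit.unit⁻¹))
    have h4 : IsNilpotent (Q.jacobian * y - 1) := by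
      refine hnilρ (RingHom.mem_ker.2 ?_)
      rw [map_sub, map_mul, h1, hy, map_one, IsUnit.mul_val_inv, sub_self]
    have h5 : IsUnit (Q.jacobian * y) := by simpa using h4.isUnit_one_add
    exact isUnit_of_mul_isUnit_left h5
  let Q' : Algebra.SubmersivePresentation A (MvPolynomial ι A ⧸ Ideal.span (Set.range v)) ι σ :=
    { toPreSubmersivePresentation := Q, jacobian_isUnit := hjac }
  haveI : Algebra.IsStandardSmoothOfRelativeDimension 0 A (MvPolynomial ι A ⧸ Ideal.span (Set.range v)) :=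
    ⟨ι, σ, inferInstance, inferInstance, Q', hP⟩
  let g : A ⟶ CommRingCat.of (MvPolynomial ι A ⧸ Ideal.span (Set.range v)) :=
    CommRingCat.ofHom (algebraMap A _)
  have hgρ : ∀ a : A, ρ (algebraMap A _ a) = g₀ (π a) := fun a => by
    rw [← Ideal.Quotient.mk_algebraMap]
    simp [ρ, ev, RingHom.algebraMap_toAlgebra]
  refine ⟨_, g, CommRingCat.ofHom ρ, RingHom.etale_algebraMap.2
    (Algebra.Etale.iff_isStandardSmoothOfRelativeDimension_zero.2 inferInstance), hρ, ?_⟩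
  have hw : g ≫ CommRingCat.ofHom ρ = π ≫ g₀ := CommRingCat.hom_ext (RingHom.ext hgρ)
  refine IsPushout.of_isColimit' ⟨hw⟩ ?_
  have hdesc : ∀ s : PushoutCocone g π, RingHom.ker ρ ≤ RingHom.ker s.inl.hom := by
    intro s x hx
    obtain ⟨q, rfl⟩ := Ideal.Quotient.mk_surjective x
    have h1 : MvPolynomial.map π.hom q ∈ (Ideal.span (Set.range v)).map (MvPolynomial.map π.hom) := by
      rw [hspan]; exact hx
    obtain ⟨w, hw', hwq⟩ :=
      (Ideal.mem_map_iff_of_surjective _ (MvPolynomial.map_surjective _ hπ)).1 h1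
    have h2 : ∀ r : MvPolynomial ι A, s.inl.hom (Ideal.Quotient.mk _ r) =
        MvPolynomial.eval₂ s.inr.hom (fun i => s.inl.hom (Ideal.Quotient.mk _ (MvPolynomial.X i)))
          (MvPolynomial.map π.hom r) := by
      intro r
      induction r using MvPolynomial.induction_on with
      | C a =>
        rw [MvPolynomial.map_C, MvPolynomial.eval₂_C]
        exact ConcreteCategory.congr_hom s.condition a
      | add r r' hr hr' => simp only [map_add, MvPolynomial.eval₂_add, hr, hr']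
      | mul_X r i hr => simp only [map_mul, MvPolynomial.map_X, MvPolynomial.eval₂_mul, MvPolynomial.eval₂_X, hr]
    rw [RingHom.mem_ker, h2, ← hwq, ← h2, Ideal.Quotient.eq_zero_iff_mem.2 hw', map_zero]
  refine PushoutCocone.IsColimit.mk _ (fun s => CommRingCat.ofHom
    (RingHom.liftOfSurjective ρ hρ ⟨s.inl.hom, hdesc s⟩)) (fun s => ?_) (fun s => ?_) (fun s m h1 _ => ?_)
  · refine CommRingCat.hom_ext (RingHom.ext fun x => ?_)
    exact RingHom.liftOfRightInverse_comp_apply ρ _ (Function.rightInverse_surjInv hρ) ⟨s.inl.hom, hdesc s⟩ x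
  · refine CommRingCat.hom_ext (RingHom.ext fun a => ?_)
    obtain ⟨a', rfl⟩ := hπ a
    change RingHom.liftOfSurjective ρ hρ ⟨s.inl.hom, hdesc s⟩ (g₀ (π a')) = s.inr.hom (π a')
    rw [← hgρ]
    exact (RingHom.liftOfRightInverse_comp_apply ρ _ (Function.rightInverse_surjInv hρ) ⟨s.inl.hom, hdesc s⟩ _).trans
      (ConcreteCategory.congr_hom s.condition a')
  · refine CommRingCat.hom_ext (RingHom.ext fun x => ?_)
    obtain ⟨x', rfl⟩ := hρ x
    exact (ConcreteCategory.congr_hom h1 x').trans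
      (RingHom.liftOfRightInverse_comp_apply ρ _ (Function.rightInverse_surjInv hρ) ⟨s.inl.hom, hdesc s⟩ x').symm

/-- Root towers lift along surjections. -/
theorem Tower.exists_lift (p : ℕ) : ∀ (n : ℕ) {C C₀ B₀ : CommRingCat.{u}} (ρ : C ⟶ C₀) {φ₀ : C₀ ⟶ B₀},
    Function.Surjective ρ.hom → Tower p n C₀ B₀ φ₀ →
      ∃ (B : CommRingCat.{u}) (φ : C ⟶ B) (σ : B ⟶ B₀), Tower p n C B φ ∧ IsPushout φ ρ σ φ₀
  | 0, C, _, _, ρ, φ₀, _, h => by
    haveI : IsIso φ₀ := h
    exact ⟨C, 𝟙 C, ρ ≫ φ₀, inferInstanceAs (IsIso (𝟙 C)), IsPushout.of_horiz_isIso ⟨by simp⟩⟩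
  | n + 1, C, C₀, B₀, ρ, φ₀, hρ, ⟨a₀, ψ₀, hψ₀, h⟩ => by
    obtain ⟨a, rfl⟩ := hρ a₀
    have hR := isPushout_rootMap p ρ a
    have hsurj : Function.Surjective (rootMapMap p ρ a).hom := by
      intro x
      obtain ⟨q, rfl⟩ := AdjoinRoot.mk_surjective x
      induction q using Polynomial.induction_on' with
      | add f f' hf hf' =>
        obtain ⟨y, hy⟩ := hf
        obtain ⟨y', hy'⟩ := hf'
        exact ⟨y + y', by rw [map_add, map_add, hy, hy']⟩
      | monomial m c =>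
        obtain ⟨c', rfl⟩ := hρ c
        exact ⟨AdjoinRoot.mk _ (Polynomial.C c' * Polynomial.X ^ m),
          by simp [rootMapMap, ← Polynomial.C_mul_X_pow_eq_monomial]⟩
    obtain ⟨B, ψ, σ, hψ, H⟩ := Tower.exists_lift p n (rootMapMap p ρ a) hsurj h
    refine ⟨B, rootMap p C a ≫ ψ, σ, ⟨a, ψ, rfl, hψ⟩, ?_⟩
    rw [← hψ₀]
    exact hR.flip.paste_horiz H

theorem exists_isQuiet_isPullback (p : ℕ) {T U U' : Scheme.{u}} (i : U ⟶ T) [IsClosedImmersion i]
    [Surjective i] (f' : U' ⟶ U) (hf' : Quiet.IsQuiet p f') (u : U') :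
    ∃ (V : U'.Opens) (T' : Scheme.{u}) (q : T' ⟶ T) (j : (V : Scheme.{u}) ⟶ T'),
      u ∈ V ∧ Quiet.IsQuiet p q ∧ IsPullback j (V.ι ≫ f') q i := by
  obtain ⟨V₀, Y, r, e, huV, hr, he, hfac⟩ := hf' u
  haveI := he
  let y : Y := r ⟨u, huV⟩
  obtain ⟨Ur, hyr, hrU, n, hn'⟩ := hr y
  obtain ⟨_, ⟨(T₀ : T.Opens), hT₀, rfl⟩, hxT₀, -⟩ := T.isBasis_affineOpens.exists_subset_of_mem_open
    (Set.mem_univ (i (e y))) isOpen_univ
  have hU₀ : IsAffineOpen (i ⁻¹ᵁ T₀) := hT₀.preimage i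
  obtain ⟨_, ⟨(W : Y.Opens), hW, rfl⟩, hyW, hleW⟩ := Y.isBasis_affineOpens.exists_subset_of_mem_open
    (show y ∈ Ur.1 ⊓ e ⁻¹ᵁ (i ⁻¹ᵁ T₀) from ⟨hyr, hxT₀⟩) (Ur.1 ⊓ e ⁻¹ᵁ (i ⁻¹ᵁ T₀)).2
  have hle : W ≤ e ⁻¹ᵁ (i ⁻¹ᵁ T₀) := fun a ha => (hleW ha).2
  have hnT : Tower p n Γ(Y, Ur.1) Γ((V₀ : Scheme.{u}), r ⁻¹ᵁ Ur.1) (r.app Ur.1) := by
    letI := (r.app Ur.1).hom.toAlgebra
    exact (isRootTower_iff p n _ _).1 hn'
  obtain ⟨hV₀aff, hn⟩ := tower_restrict r Ur.2 hW (fun a ha => (hleW ha).1) hrU hnT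
  let V : U'.Opens := V₀.ι ''ᵁ (r ⁻¹ᵁ W)
  have hV : IsAffineOpen V := hV₀aff.image_of_isOpenImmersion _
  have huVV : u ∈ V := ⟨⟨u, huV⟩, hyW, rfl⟩
  have hVle : V ≤ f' ⁻¹ᵁ (i ⁻¹ᵁ T₀) := by
    rintro _ ⟨v, hv, rfl⟩
    show (V₀.ι ≫ f') v ∈ i ⁻¹ᵁ T₀
    rw [← hfac]
    exact hle hv
  let π : Γ(T, T₀) ⟶ Γ(U, i ⁻¹ᵁ T₀) := i.app T₀
  have hnil : RingHom.ker π.hom ≤ nilradical Γ(T, T₀) := by
    intro s hs
    rw [mem_nilradical, Scheme.isNilpotent_iff_basicOpen_eq_bot_of_isCompact hT₀.isCompact]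
    rw [eq_bot_iff]
    intro t ht
    obtain ⟨a, rfl⟩ := i.surjective t
    have h1 : a ∈ i ⁻¹ᵁ T.basicOpen s := ht
    rw [Scheme.preimage_basicOpen, show i.app T₀ s = 0 from hs] at h1
    simp at h1
  let g₀ : Γ(U, i ⁻¹ᵁ T₀) ⟶ Γ(Y, W) := e.appLE (i ⁻¹ᵁ T₀) W hle
  obtain ⟨C, g, ρ, hg, hρ, H1⟩ := exists_etale_lift π (i.app_surjective T₀ hT₀) hnil g₀
    (e.etale_appLE hU₀ hW hle)
  obtain ⟨B, φ, σ, hφ, H2⟩ := Tower.exists_lift p n ρ (φ₀ := r.app W) hρ hn
  have hkey : f'.appLE (i ⁻¹ᵁ T₀) V hVle = g₀ ≫ r.app W :=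
    (appLE_of_fac hfac hle le_rfl hVle).trans (by rw [Scheme.Hom.appLE_eq_app])
  have H3 : IsPushout (g ≫ φ) π σ (f'.appLE (i ⁻¹ᵁ T₀) V hVle) := by
    rw [hkey]
    exact H1.paste_horiz H2
  let q : Spec B ⟶ T := Spec.map (g ≫ φ) ≫ hT₀.fromSpec
  refine ⟨V, Spec B, q, hV.isoSpec.hom ≫ Spec.map σ, huVV, fun t => ?_, ?_⟩
  · refine ⟨⊤, Spec C, (⊤ : (Spec B).Opens).ι ≫ Spec.map φ, Spec.map g ≫ hT₀.fromSpec, trivial, ?_, ?_, ?_⟩
    · haveI : IsAffine ((⊤ : (Spec B).Opens) : Scheme.{u}) := isAffineOpen_top _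
      refine isPthRoot_of_tower (n := n) _ ?_
      haveI : IsIso (⊤ : (Spec B).Opens).ι := by rw [← Scheme.topIso_hom]; infer_instance
      haveI : IsIso (⊤ : (Spec B).Opens).ι.appTop := inferInstanceAs (IsIso (Scheme.Γ.map (⊤ : (Spec B).Opens).ι.op))
      have h1 : ((⊤ : (Spec B).Opens).ι ≫ Spec.map φ).appTop = (Scheme.ΓSpecIso C).hom ≫ φ ≫
          ((Scheme.ΓSpecIso B).inv ≫ (⊤ : (Spec B).Opens).ι.appTop) := by
        rw [Scheme.Hom.comp_appTop, ← cancel_epi (Scheme.ΓSpecIso C).inv,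
          Scheme.ΓSpecIso_inv_naturality_assoc, Iso.inv_hom_id_assoc]
      rw [h1]
      exact (hφ.comp_iso _).iso_comp _
    · haveI : Etale (Spec.map g) := (HasRingHomProperty.Spec_iff (P := @Etale)).2 hg
      haveI : IsOpenImmersion hT₀.fromSpec := hT₀.isOpenImmersion_fromSpec
      exact Etale.etale_comp _ _
    · simp only [q, Spec.map_comp, Category.assoc]
  · haveI : IsOpenImmersion hT₀.fromSpec := hT₀.isOpenImmersion_fromSpec
    haveI : IsOpenImmersion hU₀.fromSpec := hU₀.isOpenImmersion_fromSpec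
    have hcomm : hU₀.fromSpec ≫ i = Spec.map π ≫ hT₀.fromSpec := by
      rw [← IsAffineOpen.SpecMap_appLE_fromSpec i hT₀ hU₀ le_rfl, Scheme.Hom.appLE_eq_app]
    have hsq : IsPullback (Spec.map π) hU₀.fromSpec hT₀.fromSpec i :=
      IsOpenImmersion.isPullback _ _ _ _ hcomm (by rw [hT₀.opensRange_fromSpec, hU₀.opensRange_fromSpec])
    have hbig : IsPullback (Spec.map σ)
        (Spec.map (f'.appLE (i ⁻¹ᵁ T₀) V hVle) ≫ hU₀.fromSpec) q i :=
      (isPullback_SpecMap_of_isPushout _ _ _ _ H3).paste_vert hsq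
    have hVι : V.ι ≫ f' = hV.isoSpec.hom ≫ (Spec.map (f'.appLE (i ⁻¹ᵁ T₀) V hVle) ≫ hU₀.fromSpec) := by
      rw [IsAffineOpen.SpecMap_appLE_fromSpec f' hU₀ hV hVle, ← Category.assoc,
        IsAffineOpen.isoSpec_hom, IsAffineOpen.toSpecΓ_fromSpec]
    rw [hVι]
    exact (IsPullback.of_horiz_isIso (fst := hV.isoSpec.hom) (g := 𝟙 U)
      (snd := hV.isoSpec.hom ≫ (Spec.map (f'.appLE (i ⁻¹ᵁ T₀) V hVle) ≫ hU₀.fromSpec))
      (f := Spec.map (f'.appLE (i ⁻¹ᵁ T₀) V hVle) ≫ hU₀.fromSpec)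
      ⟨(Category.comp_id _).symm⟩).paste_horiz hbig

end Groth.Agent.QuietLib
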