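import Groth.Agent.QuietLib.Tower
import Mathlib.AlgebraicGeometry.Morphisms.Flat

/-!
# Base change of `p`-th root morphisms
-/

set_option backward.isDefEq.respectTransparency false
set_option backward.isDefEq.respectTransparency.types false

universe u

open CategoryTheory CategoryTheory.Limits AlgebraicGeometry

namespace Groth.Agent.QuietLib

theorem isPthRoot_of_isPullback {p : ℕ} {V Z V' Z' : Scheme.{u}} {r : V ⟶ Z} {e : Z' ⟶ Z}
    {r' : V' ⟶ Z'} {g : V' ⟶ V} (H : IsPullback g r' r e) (hr : Quiet.IsPthRoot p r) :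
    Quiet.IsPthRoot p r' := by
  intro z'
  obtain ⟨U, hzU, hV, n, hn⟩ := hr (e z')
  obtain ⟨_, ⟨(U' : Z'.Opens), hU', rfl⟩, hzU', hle⟩ := Z'.isBasis_affineOpens.exists_subset_of_mem_open
    (show z' ∈ e ⁻¹ᵁ U.1 from hzU) (e ⁻¹ᵁ U.1).2
  have hle' : U' ≤ e ⁻¹ᵁ U.1 := hle
  have hUY : r' ⁻¹ᵁ U' = g ⁻¹ᵁ (r ⁻¹ᵁ U.1) ⊓ r' ⁻¹ᵁ U' := by
    refine (inf_eq_right.2 ?_).symm
    rw [← Scheme.Hom.comp_preimage, H.w, Scheme.Hom.comp_preimage]
    exact r'.preimage_mono hle'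
  have : IsAffine (r ⁻¹ᵁ U.1).toScheme := hV
  have : IsAffine (U.1 : Z.Opens).toScheme := U.2
  have : IsAffine (U' : Z'.Opens).toScheme := hU'
  have hP := Scheme.Hom.isPullback_resLE H hle' le_rfl hUY
  have hiso := isIso_pushoutSection_of_isAffineOpen H hle' le_rfl hUY U.2 hU' hV
  have hpo := (isIso_pushoutSection_iff H hle' le_rfl hUY).1 hiso
  have hUY' : IsAffineOpen (r' ⁻¹ᵁ U') := .of_isIso hP.isoPullback.hom
  refine ⟨⟨U', hU'⟩, hzU', hUY', n, ?_⟩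
  letI := (r.app U.1).hom.toAlgebra
  letI := (r'.app U').hom.toAlgebra
  rw [isRootTower_iff]
  rw [isRootTower_iff] at hn
  have e1 : r.appLE U.1 (r ⁻¹ᵁ U.1) le_rfl = r.app U.1 := Scheme.Hom.appLE_eq_app _
  have e2 : r'.appLE U' (r' ⁻¹ᵁ U') le_rfl = r'.app U' := Scheme.Hom.appLE_eq_app _
  rw [e1] at hpo
  erw [e2] at hpo
  exact Tower.of_isPushout p n hpo.flip hn

theorem isQuiet_of_isPullback {p : ℕ} {X Y X' Y' : Scheme.{u}}
    (f : Y ⟶ X) (g : X' ⟶ X) (f' : Y' ⟶ X') (g' : Y' ⟶ Y) (H : IsPullback g' f' f g)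
    (hf : Quiet.IsQuiet p f) : Quiet.IsQuiet p f' := by
  intro y'
  obtain ⟨V, Z, r, e, hyV, hr, he, hfac⟩ := hf (g' y')
  have hout : IsPullback (g' ∣_ V) ((g' ⁻¹ᵁ V).ι ≫ f') (r ≫ e) g := by
    rw [hfac]
    exact (isPullback_morphismRestrict g' V).paste_vert H
  let r' : (g' ⁻¹ᵁ V).toScheme ⟶ pullback e g :=
    pullback.lift ((g' ∣_ V) ≫ r) ((g' ⁻¹ᵁ V).ι ≫ f') (by rw [Category.assoc, hout.w])
  have hsnd : r' ≫ pullback.snd e g = (g' ⁻¹ᵁ V).ι ≫ f' := pullback.lift_snd _ _ _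
  have hfst : r' ≫ pullback.fst e g = (g' ∣_ V) ≫ r := pullback.lift_fst _ _ _
  have hin : IsPullback (g' ∣_ V) r' r (pullback.fst e g) := by
    refine IsPullback.of_bot ?_ hfst.symm (IsPullback.of_hasPullback e g)
    rw [hsnd]
    exact hout
  haveI := he
  exact ⟨g' ⁻¹ᵁ V, pullback e g, r', pullback.snd e g, hyV, isPthRoot_of_isPullback hin hr,
    MorphismProperty.pullback_snd _ _ he, hsnd⟩

end Groth.Agent.QuietLib
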