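import Groth.Agent.QuietLib.Frobenius

/-!
# Étale algebras descend along towers of `p`-th root extractions; composition of quasi-étale morphisms
-/

set_option linter.style.haveILetI false

universe u

open CategoryTheory CategoryTheory.Limits AlgebraicGeometry

noncomputable section

namespace Groth.Agent.QuietLib

theorem natCast_eq_zero_of_hom {p : ℕ} {A B : CommRingCat.{u}} (φ : A ⟶ B) (hA : (p : A) = 0) :
    (p : B) = 0 := by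
  rw [← map_natCast φ.hom, hA, map_zero]

/-- Etale base change. -/
theorem etale_of_isPushout {A B A' B' : CommRingCat.{u}} {g : A ⟶ B} {φ : A ⟶ A'} {φ' : B ⟶ B'}
    {g' : A' ⟶ B'} (H : IsPushout g φ φ' g') (hg : g.hom.Etale) : g'.hom.Etale := by
  have hh : MorphismProperty.IsStableUnderCobaseChange
      (RingHom.toMorphismProperty fun {R S} [CommRing R] [CommRing S] => RingHom.Etale (R := R) (S := S)) :=
    RingHom.isStableUnderCobaseChange_toMorphismProperty_iff.2 RingHom.Etale.isStableUnderBaseChange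
  exact MorphismProperty.of_isPushout (P := RingHom.toMorphismProperty fun {R S} [CommRing R] [CommRing S] =>
    RingHom.Etale (R := R) (S := S)) H.flip hg

open Polynomial in
/-- One step: an étale algebra over `A[x]/(x^p - a)` comes from an étale algebra over `A`. -/
theorem exists_etale_descent_rootRing (p : ℕ) [Fact p.Prime] (A : CommRingCat.{u}) (hA : (p : A) = 0)
    (a : A) (C : CommRingCat.{u}) [Nontrivial C]
    (g : CommRingCat.of (Quiet.RootRing p A a) ⟶ C) (hg : g.hom.Etale) :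
    ∃ (C₁ : CommRingCat.{u}) (g₁ : A ⟶ C₁) (β : C₁ ⟶ C), g₁.hom.Etale ∧
      IsPushout g₁ (rootMap p A a) β g := by
  let B := Quiet.RootRing p A a
  haveI : Nontrivial B := RingHom.domain_nontrivial g.hom
  haveI : Nontrivial A := RingHom.domain_nontrivial (AdjoinRoot.of (X ^ p - Polynomial.C a : A[X]))
  haveI : CharP A p := (CharP.charP_iff_prime_eq_zero Fact.out).2 hA
  have hB : (p : B) = 0 := natCast_eq_zero_of_hom (rootMap p A a) hA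
  haveI : CharP B p := (CharP.charP_iff_prime_eq_zero Fact.out).2 hB
  haveI : CharP C p := (CharP.charP_iff_prime_eq_zero Fact.out).2 (natCast_eq_zero_of_hom g hB)
  let ψ : B →+* A := AdjoinRoot.lift (frobenius A p) a (by simp [frobenius_def])
  have hψ : (AdjoinRoot.of (X ^ p - Polynomial.C a : A[X])).comp ψ = frobenius B p := by
    refine RingHom.ext fun x => ?_
    induction x using AdjoinRoot.induction_on with
    | _ q =>
      induction q using Polynomial.induction_on' with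
      | add f f' hf hf' => simp only [map_add, hf, hf']
      | monomial n c =>
        have h := AdjoinRoot.eval₂_root (X ^ p - Polynomial.C a : A[X])
        simp only [eval₂_sub, eval₂_X_pow, eval₂_C, sub_eq_zero] at h
        simp only [← Polynomial.C_mul_X_pow_eq_monomial, map_mul, map_pow, AdjoinRoot.mk_C, AdjoinRoot.mk_X]
        simp [ψ, frobenius_def, B, h]
  letI := g.hom.toAlgebra
  haveI : Algebra.Etale B C := hg
  have hE := isPushout_frobenius_of_etale p B C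
  let ψh : CommRingCat.of B ⟶ A := CommRingCat.ofHom ψ
  have hψh : ψh ≫ rootMap p A a = CommRingCat.ofHom (frobenius B p) := CommRingCat.hom_ext hψ
  have hpo := IsPushout.of_hasPushout g ψh
  let β : pushout g ψh ⟶ C := hpo.desc (CommRingCat.ofHom (frobenius C p)) (rootMap p A a ≫ g) (by
    rw [← Category.assoc, hψh]
    exact hE.w)
  refine ⟨pushout g ψh, pushout.inr g ψh, β, etale_of_isPushout hpo hg, ?_⟩
  refine IsPushout.of_top (h₁₁ := g) (v₁₁ := ψh) (v₁₂ := pushout.inl g ψh) ?_ (hpo.inr_desc _ _ _) hpo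
  rw [hψh, hpo.inl_desc]
  exact hE

/-- An étale algebra over a tower comes from an étale algebra over the bottom. -/
theorem Tower.exists_etale_descent (p : ℕ) [Fact p.Prime] : ∀ (n : ℕ) {A B C : CommRingCat.{u}}
    {φ : A ⟶ B} (g : B ⟶ C), (p : A) = 0 → Nontrivial C → g.hom.Etale → Tower p n A B φ →
      ∃ (C₁ : CommRingCat.{u}) (g₁ : A ⟶ C₁) (β : C₁ ⟶ C), g₁.hom.Etale ∧ IsPushout g₁ φ β g
  | 0, A, B, C, φ, g, _, _, hg, h => by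
    haveI : IsIso φ := h
    refine ⟨C, φ ≫ g, 𝟙 C, ?_, (IsPushout.of_horiz_isIso (f := φ) (g := φ ≫ g) ⟨by simp⟩).flip⟩
    exact RingHom.Etale.stableUnderComposition φ.hom g.hom
      (RingHom.Etale.of_bijective (ConcreteCategory.bijective_of_isIso φ)) hg
  | n + 1, A, B, C, φ, g, hA, _, hg, ⟨a, ψ, hψ, h⟩ => by
    obtain ⟨C₂, g₂, β₂, hg₂, H₂⟩ := Tower.exists_etale_descent p n g
      (natCast_eq_zero_of_hom (rootMap p A a) hA) ‹_› hg h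
    haveI : Nontrivial C₂ := RingHom.domain_nontrivial β₂.hom
    obtain ⟨C₁, g₁, β₁, hg₁, H₁⟩ := exists_etale_descent_rootRing p A hA a C₂ g₂ hg₂
    refine ⟨C₁, g₁, β₁ ≫ β₂, hg₁, ?_⟩
    rw [← hψ]
    exact H₁.paste_vert H₂

/-- Over an affine `U` on which the tower is defined, the tower restricts to smaller affines. -/
theorem tower_restrict {p n : ℕ} {V Z : Scheme.{u}} (r : V ⟶ Z) {U U' : Z.Opens} (hU : IsAffineOpen U)
    (hU' : IsAffineOpen U') (hle : U' ≤ U) (hV : IsAffineOpen (r ⁻¹ᵁ U))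
    (hn : Tower p n Γ(Z, U) Γ(V, r ⁻¹ᵁ U) (r.app U)) :
    IsAffineOpen (r ⁻¹ᵁ U') ∧ Tower p n Γ(Z, U') Γ(V, r ⁻¹ᵁ U') (r.app U') := by
  have hUY : r ⁻¹ᵁ U' = (𝟙 V : V ⟶ V) ⁻¹ᵁ (r ⁻¹ᵁ U) ⊓ r ⁻¹ᵁ U' :=
    (inf_eq_right.2 (r.preimage_mono hle)).symm
  have hiso := isIso_pushoutSection_of_isAffineOpen (IsPullback.id_horiz r) hle le_rfl hUY hU hU' hV
  have hpo := (isIso_pushoutSection_iff (IsPullback.id_horiz r) hle le_rfl hUY).1 hiso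
  rw [Scheme.Hom.appLE_eq_app] at hpo
  refine ⟨?_, ?_⟩
  · have : IsAffine (r ⁻¹ᵁ U).toScheme := hV
    have : IsAffine (U : Z.Opens).toScheme := hU
    have : IsAffine (U' : Z.Opens).toScheme := hU'
    exact .of_isIso (Scheme.Hom.isPullback_resLE (IsPullback.id_horiz r) hle le_rfl hUY).isoPullback.hom
  · have := Tower.of_isPushout p n hpo.flip hn
    rwa [Scheme.Hom.appLE_eq_app] at this

/-- Sections of `f` through a factorisation `r ≫ e = V.ι ≫ f`. -/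
theorem appLE_of_fac {X Y Z : Scheme.{u}} {V : Y.Opens} {r : (V : Scheme.{u}) ⟶ Z} {e : Z ⟶ X}
    {f : Y ⟶ X} (h : r ≫ e = V.ι ≫ f) {A : X.Opens} {U : Z.Opens} {W : (V : Scheme.{u}).Opens}
    (h₁ : U ≤ e ⁻¹ᵁ A) (h₂ : W ≤ r ⁻¹ᵁ U) (h₃ : V.ι ''ᵁ W ≤ f ⁻¹ᵁ A) :
    f.appLE A (V.ι ''ᵁ W) h₃ = e.appLE A U h₁ ≫ r.appLE U W h₂ := by
  rw [Scheme.Hom.appLE_comp_appLE]
  have h4 : W ≤ (V.ι ≫ f) ⁻¹ᵁ A := fun v hv => by
    have : V.ι v ∈ f ⁻¹ᵁ A := h₃ ⟨v, hv, rfl⟩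
    exact this
  rw [← ι_comp_appLE V f A W h4 h₃]
  simp only [h]
  try rfl

/-- Rings of a tower give a `p`-th root morphism of affine schemes. -/
theorem isPthRoot_of_tower {p n : ℕ} {V W : Scheme.{u}} [IsAffine V] [IsAffine W] (r : V ⟶ W)
    (h : Tower p n Γ(W, ⊤) Γ(V, ⊤) r.appTop) : Quiet.IsPthRoot p r := fun x => by
  refine ⟨⟨⊤, isAffineOpen_top W⟩, trivial, isAffineOpen_top V, n, ?_⟩
  letI := (r.app ⊤).hom.toAlgebra
  rw [isRootTower_iff]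
  exact h

theorem isQuiet_comp (p : ℕ) [Fact p.Prime] {X Y Z : Scheme.{u}} [FrobSch.IsCharP X p]
    (f : Y ⟶ X) (g : Z ⟶ Y) (hf : Quiet.IsQuiet p f) (hg : Quiet.IsQuiet p g) :
    Quiet.IsQuiet p (g ≫ f) := by
  intro z
  obtain ⟨V₂, Z', r₂, e₂, hzV, hr₂, he₂, hfac₂⟩ := hg z
  obtain ⟨V₁, Y₁, r₁, e₁, hyV, hr₁, he₁, hfac₁⟩ := hf (g z)
  haveI := he₁
  haveI := he₂
  let z' : Z' := r₂ ⟨z, hzV⟩
  have hz' : e₂ z' = g z := by
    show (r₂ ≫ e₂) ⟨z, hzV⟩ = _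
    rw [hfac₂]
    rfl
  let y₁ : Y₁ := r₁ ⟨g z, hyV⟩
  obtain ⟨U₁', hy₁, hr₁U, n₁, hn₁'⟩ := hr₁ y₁
  obtain ⟨_, ⟨(U₀ : X.Opens), hU₀, rfl⟩, hxU₀, -⟩ := X.isBasis_affineOpens.exists_subset_of_mem_open
    (Set.mem_univ (e₁ y₁)) isOpen_univ
  obtain ⟨_, ⟨(U₁ : Y₁.Opens), hU₁, rfl⟩, hy₁U, hle₁⟩ := Y₁.isBasis_affineOpens.exists_subset_of_mem_open
    (show y₁ ∈ U₁'.1 ⊓ e₁ ⁻¹ᵁ U₀ from ⟨hy₁, hxU₀⟩) (U₁'.1 ⊓ e₁ ⁻¹ᵁ U₀).2
  have hn₁T : Tower p n₁ Γ(Y₁, U₁'.1) Γ((V₁ : Scheme.{u}), r₁ ⁻¹ᵁ U₁'.1) (r₁.app U₁'.1) := by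
    letI := (r₁.app U₁'.1).hom.toAlgebra
    exact (isRootTower_iff p n₁ _ _).1 hn₁'
  obtain ⟨hV₁aff, hn₁⟩ := tower_restrict r₁ U₁'.2 hU₁ (fun a ha => (hle₁ ha).1) hr₁U hn₁T
  let O : Y.Opens := V₁.ι ''ᵁ (r₁ ⁻¹ᵁ U₁)
  have hO : IsAffineOpen O := hV₁aff.image_of_isOpenImmersion _
  have hzO : g z ∈ O := ⟨⟨g z, hyV⟩, hy₁U, rfl⟩
  obtain ⟨U₂', hz'₂, hr₂U, n₂, hn₂'⟩ := hr₂ z'
  obtain ⟨_, ⟨(U₂ : Z'.Opens), hU₂, rfl⟩, hzU₂, hle₂⟩ := Z'.isBasis_affineOpens.exists_subset_of_mem_open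
    (show z' ∈ U₂'.1 ⊓ e₂ ⁻¹ᵁ O from ⟨hz'₂, show e₂ z' ∈ O by rw [hz']; exact hzO⟩) (U₂'.1 ⊓ e₂ ⁻¹ᵁ O).2
  have hn₂T : Tower p n₂ Γ(Z', U₂'.1) Γ((V₂ : Scheme.{u}), r₂ ⁻¹ᵁ U₂'.1) (r₂.app U₂'.1) := by
    letI := (r₂.app U₂'.1).hom.toAlgebra
    exact (isRootTower_iff p n₂ _ _).1 hn₂'
  obtain ⟨hV₂aff, hn₂⟩ := tower_restrict r₂ U₂'.2 hU₂ (fun a ha => (hle₂ ha).1) hr₂U hn₂T
  let W : Z.Opens := V₂.ι ''ᵁ (r₂ ⁻¹ᵁ U₂)
  have hW : IsAffineOpen W := hV₂aff.image_of_isOpenImmersion _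
  have hzW : z ∈ W := ⟨⟨z, hzV⟩, hzU₂, rfl⟩
  have hle₂O : U₂ ≤ e₂ ⁻¹ᵁ O := fun a ha => (hle₂ ha).2
  have hle₁U : U₁ ≤ e₁ ⁻¹ᵁ U₀ := fun a ha => (hle₁ ha).2
  have hOle : O ≤ f ⁻¹ᵁ U₀ := by
    rintro _ ⟨v, hv, rfl⟩
    show (V₁.ι ≫ f) v ∈ U₀
    rw [← hfac₁]
    exact hle₁U hv
  have hWle : W ≤ g ⁻¹ᵁ O := by
    rintro _ ⟨v, hv, rfl⟩
    show (V₂.ι ≫ g) v ∈ O
    rw [← hfac₂]
    exact hle₂O hv
  haveI : Nontrivial Γ(Z', U₂) := RingHom.domain_nontrivial (Z'.presheaf.germ U₂ z' hzU₂).hom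
  have hp : (p : Γ(Y₁, U₁)) = 0 :=
    natCast_eq_zero_of_hom (e₁.appLE U₀ U₁ hle₁U) (FrobSch.natCast_eq_zero_app X p U₀)
  let gC : Γ((V₁ : Scheme.{u}), r₁ ⁻¹ᵁ U₁) ⟶ Γ(Z', U₂) := e₂.appLE O U₂ hle₂O
  obtain ⟨C₁, g₁, β, hg₁, Hpo⟩ := Tower.exists_etale_descent p n₁ gC hp inferInstance
    (e₂.etale_appLE hO hU₂ hle₂O) hn₁
  let γ : C₁ ⟶ Γ(Z, W) := β ≫ r₂.app U₂
  have htow : Tower p (n₁ + n₂) C₁ Γ(Z, W) γ :=
    Tower.comp n₁ n₂ (Tower.of_isPushout p n₁ Hpo hn₁) hn₂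
  let α : Γ(X, U₀) ⟶ C₁ := e₁.appLE U₀ U₁ hle₁U ≫ g₁
  have hα : α.hom.Etale := RingHom.Etale.stableUnderComposition (e₁.appLE U₀ U₁ hle₁U).hom g₁.hom
    (e₁.etale_appLE hU₀ hU₁ hle₁U) hg₁
  have hkey : (g ≫ f).appLE U₀ W (fun a ha => hOle (hWle ha)) = α ≫ γ := by
    rw [← Scheme.Hom.appLE_comp_appLE g f U₀ O W hOle hWle,
      appLE_of_fac hfac₁ hle₁U le_rfl hOle, appLE_of_fac hfac₂ hle₂O le_rfl hWle,
      Scheme.Hom.appLE_eq_app, Scheme.Hom.appLE_eq_app]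
    show (_ ≫ r₁.app U₁) ≫ gC ≫ r₂.app U₂ = (_ ≫ g₁) ≫ β ≫ r₂.app U₂
    rw [Category.assoc, Category.assoc, ← Category.assoc (r₁.app U₁), ← Category.assoc g₁, Hpo.w]
  refine ⟨W, Spec C₁, hW.isoSpec.hom ≫ Spec.map γ, Spec.map α ≫ hU₀.fromSpec, hzW, ?_, ?_, ?_⟩
  · haveI : IsAffine (W : Z.Opens).toScheme := hW
    refine isPthRoot_of_tower (n := n₁ + n₂) _ ?_
    have h1 : (hW.isoSpec.hom ≫ Spec.map γ).appTop =
        (Scheme.ΓSpecIso C₁).hom ≫ γ ≫ ((Scheme.ΓSpecIso Γ(Z, W)).inv ≫ hW.isoSpec.hom.appTop) := by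
      rw [Scheme.Hom.comp_appTop, ← cancel_epi (Scheme.ΓSpecIso C₁).inv,
        Scheme.ΓSpecIso_inv_naturality_assoc, Iso.inv_hom_id_assoc]
    rw [h1]
    haveI : IsIso hW.isoSpec.hom.appTop := inferInstanceAs (IsIso (Scheme.Γ.map hW.isoSpec.hom.op))
    exact (htow.comp_iso _).iso_comp _
  · haveI : Etale (Spec.map α) := (HasRingHomProperty.Spec_iff (P := @Etale)).2 hα
    haveI : IsOpenImmersion hU₀.fromSpec := hU₀.isOpenImmersion_fromSpec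
    haveI : Etale hU₀.fromSpec := inferInstance
    exact Etale.etale_comp _ _
  · rw [Category.assoc, ← Spec.map_comp_assoc, ← hkey]
    erw [IsAffineOpen.SpecMap_appLE_fromSpec (g ≫ f) hU₀ hW]
    rw [← Category.assoc, IsAffineOpen.isoSpec_hom, IsAffineOpen.toSpecΓ_fromSpec]

end Groth.Agent.QuietLib
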