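import Groth.Agent.QuietLib.Syntomic
import Groth.Agent.FrobW.RelFrob
import Groth.Prelude.Def_Frob
import Mathlib.Algebra.MvPolynomial.Equiv
import Mathlib.RingTheory.RingHom.StandardSmooth
import Mathlib.RingTheory.MvPolynomial.Expand
import Mathlib.AlgebraicGeometry.Morphisms.Flat

/-!
# Frobenius as a tower of `p`-th root extractions

* `tower_expand`: `X_i ↦ X_i ^ p` on `R[X_1, …, X_d]` is a tower of `d` extractions, for every ring `R`.
* `isPushout_frobenius_of_etale`: for an étale map of rings of characteristic `p` the Frobenius square is cocartesian.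
-/

set_option linter.style.haveILetI false

universe u

open CategoryTheory CategoryTheory.Limits AlgebraicGeometry

noncomputable section

namespace Groth.Agent.QuietLib

/-! ### Calculus of towers -/

theorem Tower.comp_iso {p n : ℕ} {A B B' : CommRingCat.{u}} {φ : A ⟶ B} (h : Tower p n A B φ)
    (β : B ⟶ B') [IsIso β] : Tower p n A B' (φ ≫ β) :=
  Tower.of_isPushout p n (α := 𝟙 A) (β := β) (IsPushout.of_horiz_isIso ⟨by simp⟩) h

theorem Tower.iso_comp {p n : ℕ} {A A' B : CommRingCat.{u}} {φ : A' ⟶ B} (α : A ⟶ A') [IsIso α]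
    (h : Tower p n A' B φ) : Tower p n A B (α ≫ φ) :=
  Tower.of_isPushout p n (α := inv α) (β := 𝟙 B) (IsPushout.of_horiz_isIso ⟨by simp⟩) h

theorem Tower.comp {p : ℕ} : ∀ (m n : ℕ) {A B C : CommRingCat.{u}} {φ : A ⟶ B} {ψ : B ⟶ C},
    Tower p m A B φ → Tower p n B C ψ → Tower p (m + n) A C (φ ≫ ψ)
  | 0, n, _, _, _, φ, _, h, h' => by
    haveI : IsIso φ := h
    simpa using h'.iso_comp φ
  | m + 1, n, _, _, _, _, χ, ⟨a, ψ, hψ, h⟩, h' => by
    rw [show m + 1 + n = m + n + 1 by omega]
    exact ⟨a, ψ ≫ χ, by rw [← Category.assoc, hψ], Tower.comp m n h h'⟩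

open Polynomial in
/-- `R[X] → R[X]`, `X ↦ X ^ p` is one extraction. -/
theorem tower_polyExpand (p : ℕ) (A : Type u) [CommRing A] :
    Tower p 1 (CommRingCat.of A[X]) (CommRingCat.of A[X])
      (CommRingCat.ofHom (Polynomial.expand A p).toRingHom) := by
  let g : A[X][X] := Polynomial.X ^ p - Polynomial.C (Polynomial.X : A[X])
  have hg : g.eval₂ (Polynomial.expand A p).toRingHom (Polynomial.X : A[X]) = 0 := by
    simp [g]
  let ψ : Quiet.RootRing p A[X] Polynomial.X →+* A[X] :=
    AdjoinRoot.lift (Polynomial.expand A p).toRingHom Polynomial.X hg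
  let χ : A[X] →+* Quiet.RootRing p A[X] Polynomial.X :=
    Polynomial.eval₂RingHom ((AdjoinRoot.of g).comp Polynomial.C) (AdjoinRoot.root g)
  have h1 : ψ.comp χ = RingHom.id _ := by
    apply Polynomial.ringHom_ext
    · intro a; simp [χ, ψ, g]
    · simp [χ, ψ, g]
  have h2 : χ.comp (Polynomial.expand A p).toRingHom = AdjoinRoot.of g := by
    apply Polynomial.ringHom_ext
    · intro a; simp [χ]
    · have h := AdjoinRoot.eval₂_root g
      simp only [g, eval₂_sub, eval₂_X_pow, eval₂_C, sub_eq_zero] at h
      simpa [χ] using h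
  refine ⟨Polynomial.X, CommRingCat.ofHom ψ, ?_, ?_⟩
  · ext q
    · simp [ψ, rootMap, g]
    · simp [ψ, rootMap, g]
  · rw [Tower, ConcreteCategory.isIso_iff_bijective]
    have h3 : χ.comp ψ = RingHom.id _ := by
      refine RingHom.ext fun x => ?_
      induction x using AdjoinRoot.induction_on with
      | _ q =>
        induction q using Polynomial.induction_on' with
        | add f f' hf hf' => simp only [map_add, hf, hf']
        | monomial n c =>
          have hc := RingHom.congr_fun h2 c
          simp only [← Polynomial.C_mul_X_pow_eq_monomial, map_mul, map_pow, AdjoinRoot.mk_C,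
            AdjoinRoot.mk_X]
          simp [ψ, χ, g] at hc ⊢
          rw [hc]
    exact ⟨Function.LeftInverse.injective (g := χ) (RingHom.congr_fun h3),
      Function.RightInverse.surjective (g := χ) (RingHom.congr_fun h1)⟩

open Polynomial in
/-- Coefficientwise application of a ring map is a base change. -/
theorem isPushout_mapRingHom {A A' : CommRingCat.{u}} (α : A ⟶ A') :
    IsPushout (CommRingCat.ofHom (Polynomial.C : A →+* A[X])) α
      (CommRingCat.ofHom (Polynomial.mapRingHom α.hom)) (CommRingCat.ofHom (Polynomial.C : A' →+* A'[X])) := by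
  refine IsPushout.of_isColimit' ⟨by ext; simp⟩ ?_
  refine PushoutCocone.IsColimit.mk _ (fun s => CommRingCat.ofHom
    (Polynomial.eval₂RingHom s.inr.hom (s.inl (Polynomial.X : A[X])))) (fun s => ?_) (fun s => ?_)
    (fun s m h1 h2 => ?_)
  · apply CommRingCat.hom_ext
    apply Polynomial.ringHom_ext
    · intro a
      have hc := ConcreteCategory.congr_hom s.condition a
      simp at hc ⊢
      exact hc.symm
    · simp
  · ext x; simp
  · apply CommRingCat.hom_ext
    apply Polynomial.ringHom_ext
    · intro a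
      have e := ConcreteCategory.congr_hom h2 a
      simp at e ⊢
      exact e
    · have e := ConcreteCategory.congr_hom h1 (Polynomial.X : A[X])
      simp at e ⊢
      exact e

/-- `X_i ↦ X_i ^ p` on `R[X_1, …, X_d]` is a tower of `d` extractions. -/
theorem tower_expand (p : ℕ) (R : Type u) [CommRing R] : ∀ d : ℕ,
    Tower p d (CommRingCat.of (MvPolynomial (Fin d) R)) (CommRingCat.of (MvPolynomial (Fin d) R))
      (CommRingCat.ofHom (MvPolynomial.expand (σ := Fin d) p).toRingHom)
  | 0 => by
    rw [Tower, ConcreteCategory.isIso_iff_bijective]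
    have : (MvPolynomial.expand (σ := Fin 0) (R := R) p) = AlgHom.id R _ :=
      MvPolynomial.algHom_ext fun i => i.elim0
    simp only [this]
    exact Function.bijective_id
  | d + 1 => by
    let A := MvPolynomial (Fin d) R
    let ε := MvPolynomial.finSuccEquiv R d
    have hd := tower_expand p R d
    have h1 : Tower p d (CommRingCat.of (Polynomial A)) (CommRingCat.of (Polynomial A))
        (CommRingCat.ofHom (Polynomial.mapRingHom (MvPolynomial.expand (σ := Fin d) (R := R) p).toRingHom)) :=
      Tower.of_isPushout p d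
        (isPushout_mapRingHom (CommRingCat.ofHom (MvPolynomial.expand (σ := Fin d) (R := R) p).toRingHom)) hd
    have h2 := Tower.comp d 1 h1 (tower_polyExpand p A)
    let εh : CommRingCat.of (MvPolynomial (Fin (d + 1)) R) ⟶ CommRingCat.of (Polynomial A) :=
      CommRingCat.ofHom ε.toRingEquiv.toRingHom
    let εi : CommRingCat.of (Polynomial A) ⟶ CommRingCat.of (MvPolynomial (Fin (d + 1)) R) :=
      CommRingCat.ofHom ε.symm.toRingEquiv.toRingHom
    haveI : IsIso εh := ⟨εi, by ext <;> simp [εh, εi], by ext <;> simp [εh, εi]⟩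
    haveI : IsIso εi := ⟨εh, by ext <;> simp [εh, εi], by ext <;> simp [εh, εi]⟩
    have h3 := (h2.iso_comp εh).comp_iso εi
    have heq : (εh ≫ CommRingCat.ofHom (Polynomial.mapRingHom
          (MvPolynomial.expand (σ := Fin d) (R := R) p).toRingHom) ≫
          CommRingCat.ofHom (Polynomial.expand A p).toRingHom) ≫ εi =
        CommRingCat.ofHom (MvPolynomial.expand (σ := Fin (d + 1)) (R := R) p).toRingHom := by
      apply CommRingCat.hom_ext
      apply MvPolynomial.ringHom_ext
      · intro r
        simp [εh, εi, ε, MvPolynomial.finSuccEquiv_apply]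
        apply (MvPolynomial.finSuccEquiv R d).injective
        simp [A, MvPolynomial.finSuccEquiv_apply]
      · intro i
        simp [εh, εi, ε]
        apply (MvPolynomial.finSuccEquiv R d).injective
        refine Fin.cases ?_ ?_ i
        · simp [A, MvPolynomial.finSuccEquiv_X_zero]
        · intro j
          simp [A, MvPolynomial.finSuccEquiv_X_succ]
    rw [← heq]
    exact h3

/-- The absolute Frobenius of a polynomial ring is coefficient Frobenius followed by `expand`. -/
theorem frobenius_eq_map_comp_expand (p : ℕ) [Fact p.Prime] (R : Type u) [CommRing R] [CharP R p]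
    (d : ℕ) : frobenius (MvPolynomial (Fin d) R) p =
      (MvPolynomial.expand (σ := Fin d) p).toRingHom.comp (MvPolynomial.map (frobenius R p)) := by
  apply MvPolynomial.ringHom_ext
  · intro r; simp [frobenius_def]
  · intro i; simp [frobenius_def]

/-- The Frobenius square of an étale map is cocartesian. -/
theorem isPushout_frobenius_of_etale (p : ℕ) [Fact p.Prime] (A B : Type u) [CommRing A] [CharP A p]
    [CommRing B] [CharP B p] [Algebra A B] [Algebra.Etale A B] :
    IsPushout (CommRingCat.ofHom (algebraMap A B)) (CommRingCat.ofHom (frobenius A p))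
      (CommRingCat.ofHom (frobenius B p)) (CommRingCat.ofHom (algebraMap A B)) := by
  have h0 := CommRingCat.isPushout_tensorProduct A B (FrobAlg.Twist p A)
  have hbij := Groth.Agent.FrobW.RelFrob.bijective_of_etale p A B
  let e : CommRingCat.of (FrobAlg.BaseChange p A B) ≅ CommRingCat.of B :=
    (RingEquiv.ofBijective (FrobAlg.relFrob p A B) hbij).toCommRingCatIso
  refine h0.of_iso (Iso.refl _) (Iso.refl _) (FrobAlg.toTwist p A).symm.toCommRingCatIso e
    (by simp) ?_ ?_ ?_
  · simp only [Iso.refl_hom, Category.id_comp]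
    ext a
    simp [FrobAlg.algebraMap_twist, frobenius_def]
  · ext b
    simp [e, frobenius_def, Groth.Agent.FrobW.RelFrob.relFrob_tmul_one]
  · ext a
    obtain ⟨a, rfl⟩ := (FrobAlg.toTwist p A).surjective a
    simp [e, Groth.Agent.FrobW.RelFrob.relFrob_tmul]

/-- Frobenius of an étale algebra over a polynomial ring over a perfect ring is a tower. -/
theorem tower_frobenius (p : ℕ) [Fact p.Prime] (R C : Type u) [CommRing R] [CharP R p]
    (hR : Function.Bijective (frobenius R p)) [CommRing C] [CharP C p] (d : ℕ)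
    [Algebra (MvPolynomial (Fin d) R) C] [Algebra.Etale (MvPolynomial (Fin d) R) C] :
    Tower p d (CommRingCat.of C) (CommRingCat.of C) (CommRingCat.ofHom (frobenius C p)) := by
  refine Tower.of_isPushout p d (isPushout_frobenius_of_etale p (MvPolynomial (Fin d) R) C) ?_
  rw [frobenius_eq_map_comp_expand, CommRingCat.ofHom_comp]
  haveI : IsIso (CommRingCat.ofHom (MvPolynomial.map (σ := Fin d) (frobenius R p))) := by
    rw [ConcreteCategory.isIso_iff_bijective]
    exact ⟨MvPolynomial.map_injective _ hR.1, MvPolynomial.map_surjective _ hR.2⟩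
  exact (tower_expand p R d).iso_comp _

/-! ### Schemes -/

theorem flat_of_isPthRoot {p : ℕ} (hp : p ≠ 0) {X Y : Scheme.{u}} (f : Y ⟶ X)
    (hf : Quiet.IsPthRoot p f) : Flat f := by
  rw [HasRingHomProperty.iff_exists_appLE (P := @Flat)
    (RingHom.Flat.stableUnderComposition.stableUnderCompositionWithLocalizationAway
      RingHom.Flat.holdsForLocalizationAway).left]
  intro y
  obtain ⟨U, hyU, hfU, n, hn⟩ := hf (f y)
  refine ⟨U, ⟨f ⁻¹ᵁ U.1, hfU⟩, hyU, le_rfl, ?_⟩
  rw [Scheme.Hom.appLE_eq_app]
  exact (@isRootTower_props p hp n _ _ _ _ (f.app U.1).hom.toAlgebra hn).2.1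

theorem isPthRoot_frob {p : ℕ} [Fact p.Prime] (X : Scheme.{u}) [FrobSch.IsCharP X p]
    (h : ∀ x : X, ∃ U : X.affineOpens, x ∈ U.1 ∧ ∃ n, Tower p n Γ(X, U.1) Γ(X, U.1)
      (CommRingCat.ofHom (FrobSch.powHom p Γ(X, U.1) (FrobSch.natCast_eq_zero_app X p U.1)))) :
    Quiet.IsPthRoot p (FrobSch.frob X p) := by
  intro x
  obtain ⟨U, hxU, n, hn⟩ := h x
  refine ⟨U, hxU, U.2, n, ?_⟩
  letI := ((FrobSch.frob X p).app U.1).hom.toAlgebra
  rw [isRootTower_iff]
  exact hn

theorem charP_sections {p : ℕ} [Fact p.Prime] (X : Scheme.{u}) [FrobSch.IsCharP X p] (U : X.Opens)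
    {x : X} (hx : x ∈ U) : CharP Γ(X, U) p := by
  haveI : Nontrivial Γ(X, U) := RingHom.domain_nontrivial (X.presheaf.germ U x hx).hom
  exact (CharP.charP_iff_prime_eq_zero Fact.out).2 (FrobSch.natCast_eq_zero_app X p U)

end Groth.Agent.QuietLib
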