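import Groth.Agent.QuietLib.BaseChange
import Groth.Prelude.Def_RegImm
import Mathlib.AlgebraicGeometry.Morphisms.Etale
import Mathlib.RingTheory.Unramified.LocalStructure
import Mathlib.RingTheory.Smooth.Flat
import Mathlib.RingTheory.QuasiFinite.Basic

/-!
# `p`-th root towers over étale algebras are syntomic
-/

set_option linter.style.haveILetI false

universe u

open CategoryTheory CategoryTheory.Limits Polynomial AlgebraicGeometry
open scoped TensorProduct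

noncomputable section

namespace Groth.Agent.QuietLib

/-- A finite presentation with as many relations as generators. -/
def Balanced (R S : Type u) [CommRing R] [CommRing S] [Algebra R S] : Prop :=
  ∃ (ι σ : Type) (_ : Finite ι) (_ : Finite σ), Nat.card ι = Nat.card σ ∧
    Nonempty (Algebra.Presentation R S ι σ)

theorem Balanced.trans {R S T : Type u} [CommRing R] [CommRing S] [CommRing T] [Algebra R S]
    [Algebra S T] [Algebra R T] [IsScalarTower R S T] (h : Balanced R S) (h' : Balanced S T) :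
    Balanced R T := by
  obtain ⟨ι, σ, _, _, hc, ⟨P⟩⟩ := h
  obtain ⟨ι', σ', _, _, hc', ⟨Q⟩⟩ := h'
  exact ⟨ι' ⊕ ι, σ' ⊕ σ, inferInstance, inferInstance, by simp [hc, hc'], ⟨Q.comp P⟩⟩

theorem balanced_rootRing (p : ℕ) (A : Type u) [CommRing A] (a : A) :
    Balanced A (Quiet.RootRing p A a) := by
  let g : A[X] := X ^ p - C a
  let e := MvPolynomial.pUnitAlgEquiv.{u, 0} A
  let π : MvPolynomial PUnit.{1} A →ₐ[A] Quiet.RootRing p A a :=
    ((Ideal.Quotient.mkₐ A (Ideal.span {g})) : A[X] →ₐ[A] Quiet.RootRing p A a).comp e.toAlgHom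
  have hπ : MvPolynomial.aeval (R := A) (fun _ : PUnit.{1} => AdjoinRoot.root g) = π := by
    apply MvPolynomial.algHom_ext
    intro i
    rw [MvPolynomial.aeval_X]
    change _ = Ideal.Quotient.mk (Ideal.span {g}) (MvPolynomial.pUnitAlgEquiv A (MvPolynomial.X i))
    rw [show MvPolynomial.pUnitAlgEquiv A (MvPolynomial.X i) = Polynomial.X by simp]
    rfl
  have hsurj : Function.Surjective (MvPolynomial.aeval (R := A) (fun _ : PUnit.{1} => AdjoinRoot.root g)) := by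
    rw [hπ]
    exact (Ideal.Quotient.mkₐ_surjective A _).comp e.surjective
  refine ⟨PUnit.{1}, PUnit.{1}, inferInstance, inferInstance, rfl, ⟨{
    toGenerators := Algebra.Generators.ofSurjective _ hsurj
    relation := fun _ => e.symm g
    span_range_relation_eq_ker := ?_ }⟩⟩
  rw [Algebra.Generators.ker_eq_ker_aeval_val]
  change _ = RingHom.ker (MvPolynomial.aeval (R := A) (fun _ : PUnit.{1} => AdjoinRoot.root g))
  rw [hπ, Set.range_const]
  ext q
  rw [RingHom.mem_ker]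
  change q ∈ Ideal.span {e.symm g} ↔ Ideal.Quotient.mk (Ideal.span {g}) (e q) = 0
  rw [Ideal.Quotient.eq_zero_iff_mem, Ideal.mem_span_singleton, Ideal.mem_span_singleton]
  constructor
  · rintro ⟨c, rfl⟩
    exact ⟨e c, by rw [map_mul, AlgEquiv.apply_symm_apply]⟩
  · rintro ⟨c, hc⟩
    exact ⟨e.symm c, e.injective (by rw [hc, map_mul, AlgEquiv.apply_symm_apply, AlgEquiv.apply_symm_apply])⟩

theorem monic_X_pow_sub_C' (p : ℕ) (hp : p ≠ 0) (A : Type u) [CommRing A] (a : A) :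
    (X ^ p - C a : A[X]).Monic :=
  monic_X_pow_sub_C a hp

/-- Towers are finite, flat and balanced. -/
theorem isRootTower_props {p : ℕ} (hp : p ≠ 0) : ∀ (n : ℕ) (A B : Type u) [CommRing A] [CommRing B]
    [Algebra A B], Quiet.IsRootTower p n A B →
      Module.Finite A B ∧ Module.Flat A B ∧ Balanced A B
  | 0, A, B, _, _, _, ⟨e⟩ => by
    refine ⟨Module.Finite.equiv e.symm.toLinearEquiv, Module.Flat.of_linearEquiv e.toLinearEquiv, ?_⟩
    refine ⟨PEmpty.{1}, PEmpty.{1}, inferInstance, inferInstance, rfl,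
      ⟨(Algebra.Presentation.id A).ofAlgEquiv e.symm⟩⟩
  | n + 1, A, B, _, _, _, ⟨a, inst, htow, h⟩ => by
    obtain ⟨h1, h2, h3⟩ := isRootTower_props hp n (Quiet.RootRing p A a) B h
    have hm := monic_X_pow_sub_C' p hp A a
    have : Module.Finite A (Quiet.RootRing p A a) := hm.finite_adjoinRoot
    have : Module.Free A (Quiet.RootRing p A a) := hm.free_adjoinRoot
    exact ⟨Module.Finite.trans (Quiet.RootRing p A a) B,
      Module.Flat.trans A (Quiet.RootRing p A a) B, (balanced_rootRing p A a).trans h3⟩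

theorem isSyntomic_of_balanced_quasiFinite (R S : Type u) [CommRing R] [CommRing S] [Algebra R S]
    [Module.Flat R S] [Algebra.QuasiFinite R S] (h : Balanced R S) : Synt.IsSyntomic R S := by
  obtain ⟨ι, σ, _, _, hc, ⟨P⟩⟩ := h
  refine ⟨inferInstance, P.finitePresentation_of_isFinite, fun q => ?_⟩
  let κ := q.asIdeal.ResidueField
  let F := q.asIdeal.Fiber S
  haveI : Module.Finite κ F := inferInstance
  refine ⟨inferInstance, fun m => ⟨1, (Ideal.ne_top_iff_one m.asIdeal).1 m.isPrime.ne_top, ?_⟩⟩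
  haveI : Nontrivial F := PrimeSpectrum.nontrivial m
  let eA : F ≃ₐ[κ] Localization.Away (1 : F) :=
    (IsLocalization.atUnits F (Submonoid.powers (1 : F)) (S := Localization.Away (1 : F)) (by
      rintro x ⟨k, rfl⟩; simp)).restrictScalars κ
  let Q : Algebra.Presentation κ (Localization.Away (1 : F)) (Fin (Nat.card ι)) (Fin (Nat.card ι)) :=
    (((P.baseChange κ : Algebra.Presentation κ F ι σ)).reindex (Finite.equivFin ι).symm
      ((finCongr hc).trans (Finite.equivFin σ).symm)).ofAlgEquiv eA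
  refine Or.inr ⟨Nat.card ι, Nat.card ι, le_rfl, MvPolynomial.aeval Q.val, Q.relation,
    Q.algebraMap_surjective, ?_, ?_⟩
  · exact (Algebra.Generators.ker_eq_ker_aeval_val Q.toGenerators).symm.trans Q.span_range_relation_eq_ker.symm
  · rw [← ringKrullDim_eq_of_ringEquiv eA.toRingEquiv, Nat.sub_self, Nat.cast_zero]
    have : IsArtinianRing F := IsArtinianRing.of_finite κ F
    exact ringKrullDimZero_iff_ringKrullDim_eq_zero.1 inferInstance

theorem isSyntomic_tower_etale {p : ℕ} (hp : p ≠ 0) (n : ℕ) (R C B : Type u) [CommRing R] [CommRing C]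
    [CommRing B] [Algebra R C] [Algebra C B] [Algebra R B] [IsScalarTower R C B]
    [Algebra.Etale R C] [Algebra.IsStandardSmoothOfRelativeDimension 0 R C]
    (h : Quiet.IsRootTower p n C B) : Synt.IsSyntomic R B := by
  obtain ⟨hfin, hflat, hbal⟩ := isRootTower_props hp n C B h
  have : Module.Flat R B := Module.Flat.trans R C B
  have : Algebra.QuasiFinite R B := Algebra.QuasiFinite.trans R C B
  refine isSyntomic_of_balanced_quasiFinite R B (Balanced.trans ?_ hbal)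
  obtain ⟨ι, σ, _, _, P, hP⟩ := Algebra.IsStandardSmoothOfRelativeDimension.out (n := 0) (R := R) (S := C)
  refine ⟨ι, σ, inferInstance, inferInstance, ?_, ⟨P.toPresentation⟩⟩
  exact le_antisymm (Nat.sub_eq_zero_iff_le.1 hP) P.card_relations_le_card_vars_of_isFinite

theorem ι_comp_appLE {X Y : Scheme.{u}} (U : Y.Opens) (f : Y ⟶ X) (A : X.Opens)
    (W : (U : Scheme.{u}).Opens) (e : W ≤ (U.ι ≫ f) ⁻¹ᵁ A) (e' : U.ι ''ᵁ W ≤ f ⁻¹ᵁ A) :
    (U.ι ≫ f).appLE A W e = f.appLE A (U.ι ''ᵁ W) e' := by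
  rw [← Scheme.Hom.appLE_comp_appLE U.ι f A (U.ι ''ᵁ W) W e' (U.ι.preimage_image_eq W).ge,
    Scheme.Opens.ι_appLE]
  erw [Y.presheaf.map_id]
  exact Category.comp_id _

theorem isSyntomicMor_of_isQuiet {p : ℕ} (hp : p ≠ 0) {X Y : Scheme.{u}} (f : Y ⟶ X)
    (hf : Quiet.IsQuiet p f) : Synt.IsSyntomicMor f := by
  intro y
  obtain ⟨V, Z, r, e, hyV, hr, he, hfac⟩ := hf y
  obtain ⟨U, hyU, hrU, n, hn⟩ := hr (r ⟨y, hyV⟩)
  haveI := he
  let e' := (U.1 : Z.Opens).ι ≫ e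
  have : Etale e' := Etale.etale_comp _ _
  obtain ⟨X₀, hX₀, W, hW, hzW, hle, hstd⟩ :=
    SmoothOfRelativeDimension.exists_isStandardSmoothOfRelativeDimension (n := 0) (f := e')
      ⟨r ⟨y, hyV⟩, hyU⟩
  let W' : Z.Opens := (U.1 : Z.Opens).ι ''ᵁ W
  have hW' : IsAffineOpen W' := hW.image_of_isOpenImmersion _
  have hW'U : W' ≤ U.1 := (U.1 : Z.Opens).ι_image_le W
  have hleW : W' ≤ e ⁻¹ᵁ X₀ := by
    rintro z ⟨w, hw, rfl⟩
    exact hle hw
  -- the tower over `W'`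
  have hP := Scheme.Hom.isPullback_resLE (IsPullback.id_horiz r) (US := U.1) (UT := W') hW'U
    (le_refl (r ⁻¹ᵁ U.1)) (UY := r ⁻¹ᵁ W')
    (by exact (inf_eq_right.2 (r.preimage_mono hW'U)).symm)
  have hUY : r ⁻¹ᵁ W' = (𝟙 _ : (V : Scheme.{u}) ⟶ _) ⁻¹ᵁ (r ⁻¹ᵁ U.1) ⊓ r ⁻¹ᵁ W' :=
    (inf_eq_right.2 (r.preimage_mono hW'U)).symm
  have hiso := isIso_pushoutSection_of_isAffineOpen (IsPullback.id_horiz r) hW'U le_rfl hUY U.2 hW' hrU
  have hpo := (isIso_pushoutSection_iff (IsPullback.id_horiz r) hW'U le_rfl hUY).1 hiso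
  have hWaff : IsAffineOpen (r ⁻¹ᵁ W') := by
    have : IsAffine (r ⁻¹ᵁ U.1).toScheme := hrU
    have : IsAffine (U.1 : Z.Opens).toScheme := U.2
    have : IsAffine (W' : Z.Opens).toScheme := hW'
    exact .of_isIso hP.isoPullback.hom
  have htow : letI := (r.appLE W' (r ⁻¹ᵁ W') le_rfl).hom.toAlgebra
      Quiet.IsRootTower p n Γ(Z, W') Γ((V : Scheme.{u}), r ⁻¹ᵁ W') := by
    letI := (r.app U.1).hom.toAlgebra
    rw [isRootTower_iff] at hn
    rw [Scheme.Hom.appLE_eq_app] at hpo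
    letI := (r.appLE W' (r ⁻¹ᵁ W') le_rfl).hom.toAlgebra
    rw [isRootTower_iff]
    exact Tower.of_isPushout p n hpo.flip hn
  -- standard smooth
  have hstd' : (e.appLE X₀ W' hleW).hom.IsStandardSmoothOfRelativeDimension 0 := by
    rw [ι_comp_appLE U.1 e X₀ W hle hleW] at hstd
    exact hstd
  have het := e.etale_appLE hX₀ hW' hleW
  let O : Y.Opens := V.ι ''ᵁ (r ⁻¹ᵁ W')
  have hyO : y ∈ O := ⟨⟨y, hyV⟩, ⟨⟨r ⟨y, hyV⟩, hyU⟩, hzW, rfl⟩, rfl⟩
  have hOle : O ≤ f ⁻¹ᵁ X₀ := by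
    rintro _ ⟨v, hv, rfl⟩
    change f (V.ι v) ∈ X₀
    rw [← Scheme.Hom.comp_apply, ← hfac]
    exact hleW hv
  refine ⟨⟨O, hWaff.image_of_isOpenImmersion _⟩, ⟨X₀, hX₀⟩, hOle, hyO, ?_⟩
  have hcomp : f.appLE X₀ O hOle = e.appLE X₀ W' hleW ≫ r.appLE W' (r ⁻¹ᵁ W') le_rfl := by
    rw [Scheme.Hom.appLE_comp_appLE]
    have h2 : r ⁻¹ᵁ W' ≤ (V.ι ≫ f) ⁻¹ᵁ X₀ := fun v hv => by
      have : V.ι v ∈ f ⁻¹ᵁ X₀ := hOle ⟨v, hv, rfl⟩
      exact this
    have h3 : (r ≫ e).appLE X₀ (r ⁻¹ᵁ W') (by rw [hfac]; exact h2) =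
        (V.ι ≫ f).appLE X₀ (r ⁻¹ᵁ W') h2 := by simp only [hfac]
    rw [h3]
    exact (ι_comp_appLE V f X₀ (r ⁻¹ᵁ W') h2 hOle).symm
  letI := (e.appLE X₀ W' hleW).hom.toAlgebra
  letI := (r.appLE W' (r ⁻¹ᵁ W') le_rfl).hom.toAlgebra
  letI : Algebra Γ(X, X₀) Γ((V : Scheme.{u}), r ⁻¹ᵁ W') :=
    (e.appLE X₀ W' hleW ≫ r.appLE W' (r ⁻¹ᵁ W') le_rfl).hom.toAlgebra
  haveI : IsScalarTower Γ(X, X₀) Γ(Z, W') Γ((V : Scheme.{u}), r ⁻¹ᵁ W') :=
    IsScalarTower.of_algebraMap_eq' rfl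
  haveI : Algebra.Etale Γ(X, X₀) Γ(Z, W') := het
  haveI : Algebra.IsStandardSmoothOfRelativeDimension 0 Γ(X, X₀) Γ(Z, W') := hstd'
  have key := isSyntomic_tower_etale hp n Γ(X, X₀) Γ(Z, W') Γ((V : Scheme.{u}), r ⁻¹ᵁ W') htow
  change @Synt.IsSyntomic Γ(X, X₀) _ Γ(Y, O) _ (f.appLE X₀ O hOle).hom.toAlgebra
  rw [hcomp]
  exact key

end Groth.Agent.QuietLib
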