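import Groth.Prelude.Def_W4c2gaugesfzipsQuiet
import Mathlib.Algebra.Category.Ring.Constructions

/-!
# Towers of `p`-th root extractions as morphisms of `CommRingCat`, and their base change
-/

universe u

open CategoryTheory CategoryTheory.Limits Polynomial

noncomputable section

namespace Groth.Agent.QuietLib

/-- The map `A → A[x]/(x^p - a)`. -/
abbrev rootMap (p : ℕ) (A : CommRingCat.{u}) (a : A) : A ⟶ CommRingCat.of (Quiet.RootRing p A a) :=
  CommRingCat.ofHom (AdjoinRoot.of _)

/-- `φ` is a tower of `n` extractions of `p`-th roots. -/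
def Tower (p : ℕ) : ℕ → ∀ (A B : CommRingCat.{u}), (A ⟶ B) → Prop
  | 0, _, _, φ => IsIso φ
  | n + 1, A, B, φ => ∃ (a : A) (ψ : CommRingCat.of (Quiet.RootRing p A a) ⟶ B),
      rootMap p A a ≫ ψ = φ ∧ Tower p n _ B ψ

theorem isRootTower_iff (p : ℕ) : ∀ (n : ℕ) (A B : Type u) [CommRing A] [CommRing B] [Algebra A B],
    Quiet.IsRootTower p n A B ↔
      Tower p n (CommRingCat.of A) (CommRingCat.of B) (CommRingCat.ofHom (algebraMap A B))
  | 0, A, B, _, _, _ => by
    simp only [Quiet.IsRootTower, Tower, ConcreteCategory.isIso_iff_bijective]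
    refine ⟨fun ⟨e⟩ => ?_, fun h => ⟨(AlgEquiv.ofBijective (Algebra.ofId A B) h).symm⟩⟩
    have h1 : (algebraMap A B : A → B) = e.symm := funext fun a => (e.symm.commutes a).symm
    change Function.Bijective (algebraMap A B)
    rw [h1]
    exact e.symm.bijective
  | n + 1, A, B, _, _, _ => by
    constructor
    · rintro ⟨a, inst, htow, h⟩
      refine ⟨a, CommRingCat.ofHom (@algebraMap (Quiet.RootRing p A a) B _ _ inst), ?_,
        (isRootTower_iff p n _ B).1 h⟩
      ext x
      exact (htow.algebraMap_apply A (Quiet.RootRing p A a) B x).symm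
    · rintro ⟨a, ψ, hψ, h⟩
      let inst : Algebra (Quiet.RootRing p A a) B := ψ.hom.toAlgebra
      refine ⟨a, inst, IsScalarTower.of_algebraMap_eq' ?_, (isRootTower_iff p n _ B).2 h⟩
      exact (congrArg CommRingCat.Hom.hom hψ).symm

/-- The map on root rings induced by `α`. -/
def rootMapMap (p : ℕ) {A A' : CommRingCat.{u}} (α : A ⟶ A') (a : A) :
    CommRingCat.of (Quiet.RootRing p A a) ⟶ CommRingCat.of (Quiet.RootRing p A' (α a)) :=
  CommRingCat.ofHom (AdjoinRoot.lift ((AdjoinRoot.of _).comp α.hom)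
    (AdjoinRoot.root (X ^ p - C (α a) : A'[X])) (by
      have h := AdjoinRoot.eval₂_root (X ^ p - C (α a) : A'[X])
      simpa using h))

theorem rootMapMap_comm (p : ℕ) {A A' : CommRingCat.{u}} (α : A ⟶ A') (a : A) :
    rootMap p A a ≫ rootMapMap p α a = α ≫ rootMap p A' (α a) := by
  ext x
  simp [rootMapMap, rootMap]

theorem isPushout_rootMap (p : ℕ) {A A' : CommRingCat.{u}} (α : A ⟶ A') (a : A) :
    IsPushout α (rootMap p A a) (rootMap p A' (α a)) (rootMapMap p α a) := by
  refine IsPushout.of_isColimit' ⟨(rootMapMap_comm p α a).symm⟩ ?_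
  refine PushoutCocone.IsColimit.mk _ (fun s => CommRingCat.ofHom (AdjoinRoot.lift s.inl.hom
    (s.inr (AdjoinRoot.root (X ^ p - C a : A[X]))) ?_)) (fun s => ?_) (fun s => ?_) (fun s m h1 h2 => ?_)
  · have h := congrArg s.inr.hom (AdjoinRoot.eval₂_root (X ^ p - C a : A[X]))
    have hc : s.inl (α a) = s.inr (AdjoinRoot.of (X ^ p - C a : A[X]) a) :=
      ConcreteCategory.congr_hom s.condition a
    simp only [eval₂_sub, eval₂_X_pow, eval₂_C, map_sub, map_pow, map_zero] at h ⊢
    rw [← h]
    exact congrArg (_ - ·) hc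
  · ext x
    simp [rootMap]
  · apply CommRingCat.hom_ext
    refine RingHom.ext fun x => ?_
    induction x using AdjoinRoot.induction_on with
    | _ q =>
      induction q using Polynomial.induction_on' with
      | add f g hf hg => simp only [map_add, hf, hg]
      | monomial n c =>
        have hc := ConcreteCategory.congr_hom s.condition c
        simp only [← C_mul_X_pow_eq_monomial, map_mul, map_pow, AdjoinRoot.mk_C, AdjoinRoot.mk_X]
        simp [rootMapMap, rootMap] at hc ⊢
        rw [hc]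
  · apply CommRingCat.hom_ext
    refine RingHom.ext fun x => ?_
    induction x using AdjoinRoot.induction_on with
    | _ q =>
      induction q using Polynomial.induction_on' with
      | add f g hf hg => simp only [map_add, hf, hg]
      | monomial n c =>
        have e1 := ConcreteCategory.congr_hom h1 c
        have e2 := ConcreteCategory.congr_hom h2 (AdjoinRoot.root (X ^ p - C a : A[X]))
        simp only [← C_mul_X_pow_eq_monomial, map_mul, map_pow, AdjoinRoot.mk_C, AdjoinRoot.mk_X]
        simp [rootMapMap, rootMap] at e1 e2 ⊢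
        rw [e1, e2]

theorem Tower.of_isPushout (p : ℕ) : ∀ (n : ℕ) {A B A' B' : CommRingCat.{u}} {φ : A ⟶ B} {α : A ⟶ A'}
    {φ' : A' ⟶ B'} {β : B ⟶ B'}, IsPushout α φ φ' β → Tower p n A B φ → Tower p n A' B' φ'
  | 0, _, _, _, _, φ, _, _, _, H, h => by
    have : IsIso φ := h
    exact H.isIso_inl_of_isIso
  | n + 1, A, B, A', B', φ, α, φ', β, H, ⟨a, ψ, hψ, h⟩ => by
    have hR := isPushout_rootMap p α a
    let ψ' : CommRingCat.of (Quiet.RootRing p A' (α a)) ⟶ B' :=
      hR.desc φ' (ψ ≫ β) (by rw [← Category.assoc, hψ, H.w])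
    have h1 : rootMap p A' (α a) ≫ ψ' = φ' := hR.inl_desc _ _ _
    have h2 : rootMapMap p α a ≫ ψ' = ψ ≫ β := hR.inr_desc _ _ _
    refine ⟨α a, ψ', h1, Tower.of_isPushout p n (α := rootMapMap p α a) (β := β) ?_ h⟩
    refine IsPushout.of_top (h₁₁ := α) (v₁₁ := rootMap p A a) (v₁₂ := rootMap p A' (α a)) ?_ h2 hR
    rw [hψ, h1]
    exact H

end Groth.Agent.QuietLib
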